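import Groth.Agent.Lib.NormalBC6.TensorField
import Groth.Prelude.Def_Pi1
import Groth.Prelude.Def_CurvBase

/-!
# Products of geometrically normal and normal schemes over a field
-/

set_option autoImplicit false
set_option backward.isDefEq.respectTransparency false
set_option linter.style.haveILetI false
universe u

open CategoryTheory CategoryTheory.Limits AlgebraicGeometry TensorProduct

namespace Groth.Agent.NormalProd12

/-- An affine open of a normal scheme has a normal ring. -/
theorem isNormalRing_of_openImm {X : Scheme.{u}} (hX : Pi1.IsNormalScheme X) {A : Type u} [CommRing A]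
    (j : Spec (CommRingCat.of A) ⟶ X) [IsOpenImmersion j] : EGA4.IsNormalRing A := by
  intro p hp
  let x : Spec (CommRingCat.of A) := ⟨p, hp⟩
  let e : X.presheaf.stalk (j x) ≃+* Localization.AtPrime p :=
    ((asIso (j.stalkMap x)) ≪≫ Spec.stalkIso (R := CommRingCat.of A) x).commRingCatIsoToRingEquiv
  obtain ⟨h1, h2⟩ := hX (j x)
  exact ⟨MulEquiv.isDomain _ e.symm.toMulEquiv, IsIntegrallyClosed.of_equiv e⟩

/-- The image of the spectrum of a normal ring consists of normal points. -/
theorem normal_at_of_openImm {X : Scheme.{u}} {A : Type u} [CommRing A] (hA : EGA4.IsNormalRing A)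
    (j : Spec (CommRingCat.of A) ⟶ X) [IsOpenImmersion j] (x : Spec (CommRingCat.of A)) :
    IsDomain (X.presheaf.stalk (j x)) ∧ IsIntegrallyClosed (X.presheaf.stalk (j x)) := by
  let e : X.presheaf.stalk (j x) ≃+* Localization.AtPrime x.asIdeal :=
    ((asIso (j.stalkMap x)) ≪≫ Spec.stalkIso (R := CommRingCat.of A) x).commRingCatIsoToRingEquiv
  obtain ⟨h1, h2⟩ := hA x.asIdeal
  exact ⟨MulEquiv.isDomain _ e.toMulEquiv, IsIntegrallyClosed.of_equiv e.symm⟩

theorem normal_pullback {k : Type u} [Field k] {X Y : Scheme.{u}} (p : X ⟶ Spec (CommRingCat.of k))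
    (q : Y ⟶ Spec (CommRingCat.of k))
    (hX : ∀ (K : Type u) [Field K] [Algebra k K],
      Pi1.IsNormalScheme (pullback p (Spec.map (CommRingCat.ofHom (algebraMap k K)))))
    (hY : Pi1.IsNormalScheme Y) : Pi1.IsNormalScheme (pullback p q) := by
  intro z
  obtain ⟨_, ⟨U, hU, rfl⟩, hzU, -⟩ :=
    X.isBasis_affineOpens.exists_subset_of_mem_open (Set.mem_univ (pullback.fst p q z)) isOpen_univ
  obtain ⟨_, ⟨V, hV, rfl⟩, hzV, -⟩ :=
    Y.isBasis_affineOpens.exists_subset_of_mem_open (Set.mem_univ (pullback.snd p q z)) isOpen_univ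
  letI : Algebra k Γ(X, U) := (Spec.preimage (hU.fromSpec ≫ p)).hom.toAlgebra
  letI : Algebra k Γ(Y, V) := (Spec.preimage (hV.fromSpec ≫ q)).hom.toAlgebra
  have eA : Spec.map (CommRingCat.ofHom (algebraMap k Γ(X, U))) = hU.fromSpec ≫ p := Spec.map_preimage _
  have eB : Spec.map (CommRingCat.ofHom (algebraMap k Γ(Y, V))) = hV.fromSpec ≫ q := Spec.map_preimage _
  have hA : EGA4.IsGeomNormal k Γ(X, U) := by
    intro K _ _ _
    let j : pullback (Spec.map (CommRingCat.ofHom (algebraMap k Γ(X, U))))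
        (Spec.map (CommRingCat.ofHom (algebraMap k K))) ⟶ pullback p (Spec.map (CommRingCat.ofHom (algebraMap k K))) :=
      pullback.map _ _ _ _ hU.fromSpec (𝟙 _) (𝟙 _) (by rw [Category.comp_id, eA]) (by simp)
    exact FlatDepth.isNormalRing_of_ringEquiv (Algebra.TensorProduct.comm k Γ(X, U) K).toRingEquiv
      (isNormalRing_of_openImm (hX K) ((pullbackSpecIso k Γ(X, U) K).inv ≫ j))
  have hB : EGA4.IsNormalRing Γ(Y, V) := isNormalRing_of_openImm hY hV.fromSpec
  have hAB := NormalBC6.isNormalRing_tensor_geomNormal Γ(X, U) Γ(Y, V) hA hB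
  let j : pullback (Spec.map (CommRingCat.ofHom (algebraMap k Γ(X, U))))
      (Spec.map (CommRingCat.ofHom (algebraMap k Γ(Y, V)))) ⟶ pullback p q :=
    pullback.map _ _ _ _ hU.fromSpec hV.fromSpec (𝟙 _) (by rw [Category.comp_id, eA]) (by rw [Category.comp_id, eB])
  obtain ⟨w, hw⟩ : z ∈ Set.range j := by
    rw [Scheme.Pullback.range_map]
    erw [hU.range_fromSpec, hV.range_fromSpec]
    exact ⟨hzU, hzV⟩
  have hz : ((pullbackSpecIso k Γ(X, U) Γ(Y, V)).inv ≫ j) ((pullbackSpecIso k Γ(X, U) Γ(Y, V)).hom w) = z := by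
    rw [← Scheme.Hom.comp_apply, Iso.hom_inv_id_assoc, hw]
  rw [← hz]
  exact normal_at_of_openImm hAB _ _

end Groth.Agent.NormalProd12
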